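import Cfsg.Agent.Lib.SQG.Defs
import Cfsg.Agent.Lib.SQF.Fx

set_option autoImplicit false

namespace H50.SQ

open Subgroup H50.RC

variable {L : Type*} [Group L] [Finite L]

theorem cit_inv (hc : Cit L) {H : Subgroup L} (hH : Nil2 H) {y j : L} (yH : y ∈ H)
    (hy : Odd (orderOf y)) (jH : j ∈ H) (j2 : j * j = 1) (j1 : j ≠ 1) : j * y * j⁻¹ = y⁻¹ := by
  obtain ⟨O, -, HO, hO, hm⟩ := hH
  have : Fact (Nat.Prime 2) := ⟨Nat.prime_two⟩
  have ji : j⁻¹ = j := inv_eq_of_mul_eq_one_right j2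
  have h2 := hc j (orderOf_eq_prime (by rw [sq, j2]) j1)
  have cj : ∀ g ∈ O, j * g * j⁻¹ ∈ O := fun g hg => (mem_normalizer_iff.1 (HO jH) g).1 hg
  have hinj : Function.Injective fun g : O =>
      (⟨(g : L)⁻¹ * (j * g * j⁻¹), mul_mem (inv_mem g.2) (cj g g.2)⟩ : O) := fun g k e => by
    have e1 : (g : L)⁻¹ * (j * g * j⁻¹) = (k : L)⁻¹ * (j * k * j⁻¹) := congrArg Subtype.val e
    have e2 : (k : L) * (g : L)⁻¹ ∈ C j := mem_C.2 (by
      calc (k : L) * (g : L)⁻¹ * j = k * ((g : L)⁻¹ * (j * g * j⁻¹)) * j * (g : L)⁻¹ := by group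
        _ = j * (k * (g : L)⁻¹) := by rw [e1]; group)
    have e3 := eq_one_of_tw_odd (tw_of_mem h2 e2)
      (hO.of_dvd_nat (O.orderOf_dvd_natCard (mul_mem k.2 (inv_mem g.2))))
    exact Subtype.ext (mul_inv_eq_one.1 e3).symm
  obtain ⟨g, hg⟩ := Finite.injective_iff_surjective.1 hinj ⟨y, hm y yH hy⟩
  have e : (g : L)⁻¹ * (j * g * j⁻¹) = y := congrArg Subtype.val hg
  rw [← e]
  calc j * ((g : L)⁻¹ * (j * g * j⁻¹)) * j⁻¹ = j * (g : L)⁻¹ * j * g * (j * j)⁻¹ := by group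
    _ = j * (g : L)⁻¹ * j⁻¹ * g := by rw [j2, inv_one, mul_one, ji]
    _ = _ := by group

theorem ocn_nr (hc : Cit L) (he : Even (Nat.card L)) {y : L} (py : PP y) (hy : Odd (orderOf y))
    (nr : ∀ j : L, j * y * j⁻¹ ≠ y⁻¹) : OCN L := by
  refine ⟨y, py, hy, fun ι hι hf hn => ?_⟩
  obtain ⟨j, j2, j1, hj⟩ := exists_inv_fix he hι
  exact nr j (cit_inv hc hn (mem_Fix.2 hf) hy (mem_Fix.2 hj) j2 j1)

namespace CT

open scoped Pointwise

theorem fix_syl {ι : MulAut L} (hι : ι * ι = 1) : ∃ U : Sylow 2 L, ∀ a ∈ U, ι a ∈ U := by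
  have : Fact (Nat.Prime 2) := ⟨Nat.prime_two⟩
  obtain ⟨U, hU⟩ := (Tw.zp (tw_of_sq hι)).nonempty_fixed_point_of_prime_not_dvd_card (Sylow 2 L)
    (not_dvd_card_sylow 2 L)
  have e : ι • U = U := hU ⟨ι, mem_zpowers ι⟩
  refine ⟨U, fun a ha => ?_⟩
  have h1 : ι • a ∈ ι • (U : Subgroup L) := smul_mem_pointwise_smul a ι _ ha
  rw [← Sylow.pointwise_smul_def, e] at h1
  exact h1

/-- the elements of order at most two in a Sylow subgroup -/
def B (hz : Cz L) (U : Sylow 2 L) : Subgroup L where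
  carrier := {a | a ∈ U ∧ a * a = 1}
  one_mem' := ⟨one_mem _, one_mul 1⟩
  mul_mem' := fun {a b} ha hb => ⟨mul_mem ha.1 hb.1, by
    rw [mul_assoc, ← mul_assoc b, ← hz U a ha.1 ha.2 b hb.1, mul_assoc, hb.2, mul_one, ha.2]⟩
  inv_mem' := fun {a} ha => ⟨inv_mem ha.1, by rw [← mul_inv_rev, ha.2, inv_one]⟩

theorem card_B (hz : Cz L) (U : Sylow 2 L) (A : Subgroup L) (hA : ∀ a ∈ A, a * a = 1) :
    Nat.card A ≤ Nat.card (B hz U) := by
  have : Fact (Nat.Prime 2) := ⟨Nat.prime_two⟩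
  have hp : IsPGroup 2 A := fun a => ⟨1, Subtype.ext (by simpa [sq] using hA a a.2)⟩
  obtain ⟨Q, hQ⟩ := hp.exists_le_sylow
  obtain ⟨g, rfl⟩ := MulAction.exists_smul_eq L Q U
  refine Nat.card_le_card_of_injective (fun a : A => (⟨g * a * g⁻¹, ?_, ?_⟩ : B hz (g • Q)))
    fun a b e => Subtype.ext (mul_left_cancel (mul_right_cancel (Subtype.ext_iff.1 e)))
  · exact smul_mem_pointwise_smul (a : L) (MulAut.conj g) _ (hQ a.2)
  · calc g * a * g⁻¹ * (g * a * g⁻¹) = g * (a * a) * g⁻¹ := by group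
      _ = 1 := by rw [hA a a.2]; group

theorem two_fix (hz : Cz L) (A : Subgroup L) (hA : ∀ a ∈ A, a * a = 1) (h8 : 8 ≤ Nat.card A)
    {ι : MulAut L} (hι : ι * ι = 1) : ∃ u v : L, u * u = 1 ∧ v * v = 1 ∧ u * v = v * u ∧ u ≠ 1 ∧
      v ≠ 1 ∧ u * v ≠ 1 ∧ u ∈ Fix ι ∧ v ∈ Fix ι := by
  obtain ⟨U, hU⟩ := fix_syl hι
  have ii : ∀ a, ι (ι a) = a := fun a => congrArg (fun φ : MulAut L => φ a) hι
  have iB : ∀ a ∈ B hz U, ι a ∈ B hz U := fun a ha => ⟨hU a ha.1, by rw [← map_mul, ha.2, map_one]⟩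
  have cm : ∀ a ∈ B hz U, ∀ b ∈ B hz U, a * b = b * a := fun a ha b hb => hz U a ha.1 ha.2 b hb.1
  let φ : B hz U →* L := MonoidHom.mk' (fun b => (b : L) * ι b) fun a b => by
    show (a : L) * b * ι ((a : L) * b) = a * ι a * (b * ι b)
    rw [map_mul, mul_assoc, mul_assoc, ← mul_assoc (b : L), cm b b.2 _ (iB a a.2), mul_assoc]
  have h1 : φ.range ≤ B hz U ⊓ Fix ι := by
    rintro _ ⟨b, rfl⟩
    refine ⟨mul_mem b.2 (iB b b.2), ?_⟩
    show ι ((b : L) * ι b) = b * ι b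
    rw [map_mul, ii, cm b b.2 _ (iB b b.2)]
  have h2 : φ.ker.map (B hz U).subtype ≤ B hz U ⊓ Fix ι := by
    rintro _ ⟨b, hb, rfl⟩
    have e : (b : L) * ι b = 1 := hb
    exact ⟨b.2, mul_left_cancel (e.trans b.2.2.symm)⟩
  have c1 := card_le_of_le h1
  have c2 := card_le_of_le h2
  rw [card_map_of_injective (B hz U).subtype_injective] at c2
  have c3 := φ.ker.card_mul_index
  rw [index_ker] at c3
  have c4 := h8.trans (card_B hz U A hA)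
  have c5 : 2 < Nat.card (B hz U ⊓ Fix ι : Subgroup L) := by
    by_contra hx
    have := Nat.mul_le_mul (c2.trans (not_lt.1 hx)) (c1.trans (not_lt.1 hx))
    omega
  have := Fintype.ofFinite (B hz U ⊓ Fix ι : Subgroup L)
  rw [Nat.card_eq_fintype_card, Fintype.two_lt_card_iff] at c5
  obtain ⟨a, b, c, ab, ac, bc⟩ := c5
  have m1 := mul_mem (inv_mem a.2) b.2
  have m2 := mul_mem (inv_mem a.2) c.2
  refine ⟨_, _, m1.1.2, m2.1.2, cm _ m1.1 _ m2.1, fun e => ab (Subtype.ext (inv_mul_eq_one.1 e)),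
    fun e => ac (Subtype.ext (inv_mul_eq_one.1 e)), fun e => bc (Subtype.ext ?_), m1.2, m2.2⟩
  exact (mul_left_cancel (mul_left_cancel (e.trans m1.1.2.symm))).symm

end CT

theorem ocn_cen (hc : Cit L) (hz : Cz L) (A : Subgroup L) (hA : ∀ a ∈ A, a * a = 1)
    (h8 : 8 ≤ Nat.card A) (hn : ¬ IsPGroup 2 L) : OCN L := by
  obtain ⟨r, hr, r2, hd⟩ : ∃ r : ℕ, r.Prime ∧ r ≠ 2 ∧ r ∣ Nat.card L := by
    by_contra hx
    push Not at hx
    exact hn (IsPGroup.of_card (Nat.eq_prime_pow_of_unique_prime_dvd Nat.card_pos.ne'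
      fun {d} h1 h2 => by_contra fun h3 => hx d h1 h3 h2))
  have : Fact r.Prime := ⟨hr⟩
  obtain ⟨y, hy⟩ := exists_prime_orderOf_dvd_card' r hd
  have ho : Odd (orderOf y) := hy ▸ hr.odd_of_ne_two r2
  have y1 : y ≠ 1 := fun e => hr.ne_one (by rw [← hy, e, orderOf_one])
  refine ⟨y, ⟨r, 1, hr, by rw [hy, pow_one]⟩, ho, fun ι hι hf hN => ?_⟩
  obtain ⟨u, v, u2, v2, c, u1, v1, uv, fu, fv⟩ := CT.two_fix hz A hA h8 hι
  have yF := mem_Fix.2 hf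
  have i1 := cit_inv hc hN yF ho fu u2 u1
  have i2 := cit_inv hc hN yF ho fv v2 v1
  have i3 := cit_inv hc hN yF ho (mul_mem fu fv)
    (by rw [mul_assoc, ← mul_assoc v, ← c, mul_assoc, v2, mul_one, u2]) uv
  have e : u * v * y * (u * v)⁻¹ = (u * (v * y * v⁻¹)⁻¹ * u⁻¹)⁻¹ := by group
  rw [e, i2, inv_inv, i1, inv_inv] at i3
  exact odd_sq_ne ho y1 (eq_inv_iff_mul_eq_one.1 i3)

end H50.SQ
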